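import Cfsg.Agent.Lib.SporRecognition.CosetCert.Upper
import Cfsg.Agent.Lib.SporRecognition.Cert.He672.Steps1
import Cfsg.Agent.Lib.SporRecognition.Cert.He15120.Rel

/-! Generated coset-enumeration certificate: He over <a, c, d, e>, 672 cosets. -/

set_option autoImplicit false
set_option maxRecDepth 20000
set_option linter.all false
set_option Elab.async false

namespace CfsgLib.SporRecognition.Cert.He672

open CfsgLib.SporRecognition.CosetCert

theorem defs_ok : allBelow 10 671 (defStep inv fact) = true := by decide +kernel

theorem final1 : allBelow 10 672 (finalStep fact node item1 T1 2432 1 672) = true := by decide +kernel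

theorem final2 : allBelow 10 672 (finalStep fact node item2 T2 2432 2 672) = true := by decide +kernel

theorem final3 : allBelow 10 672 (finalStep fact node item3 T3 2432 3 672) = true := by decide +kernel

theorem final4 : allBelow 10 672 (finalStep fact node item4 T4 2432 4 672) = true := by decide +kernel

theorem final5 : allBelow 10 672 (finalStep fact node item5 T5 2432 5 672) = true := by decide +kernel

theorem final6 : allBelow 10 672 (finalStep fact node item6 T6 2432 6 672) = true := by decide +kernel

theorem relW_one : ∀ w ∈ relW, evalW (PresentedGroup.of (rels := (Cfsg.Spor.coxRelators Cfsg.Spor.He.edges ∪ {r | r ∈ Cfsg.Spor.He.extra}))) w = 1 := by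
  have h : coxW Cfsg.Spor.He.edges pairs extraW = relW := by decide +kernel
  rw [← h]
  exact coxW_eq_one (by decide +kernel) rfl

theorem relW_one_ext : ∀ w ∈ (relW ++ [[(.e, true), (.d, true), (.c, true), (.d, true), (.e, true), (.d, true), (.c, true), (.d, true), (.c, true), (.d, true), (.e, true), (.d, true), (.c, true), (.d, true), (.c, true)]]), evalW (PresentedGroup.of (rels := (Cfsg.Spor.coxRelators Cfsg.Spor.He.edges ∪ {r | r ∈ Cfsg.Spor.He.extra}))) w = 1 := by
  intro w hw
  rcases List.mem_append.mp hw with hw | hw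
  · exact relW_one w hw
  · rw [List.mem_singleton.mp hw]
    exact CfsgLib.SporRecognition.Cert.He15120.xrel_one

noncomputable def tabU : Cfsg.Spor.He.Gen → Nat → Nat := fun a => tabs a true

theorem sect : ∃ s : Nat → PresentedGroup (Cfsg.Spor.coxRelators Cfsg.Spor.He.edges ∪ {r | r ∈ Cfsg.Spor.He.extra}) ⧸ wordSubgroup (Cfsg.Spor.coxRelators Cfsg.Spor.He.edges ∪ {r | r ∈ Cfsg.Spor.He.extra}) subW,
    s 0 = ((1 : PresentedGroup (Cfsg.Spor.coxRelators Cfsg.Spor.He.edges ∪ {r | r ∈ Cfsg.Spor.He.extra})) : PresentedGroup (Cfsg.Spor.coxRelators Cfsg.Spor.He.edges ∪ {r | r ∈ Cfsg.Spor.He.extra}) ⧸ wordSubgroup (Cfsg.Spor.coxRelators Cfsg.Spor.He.edges ∪ {r | r ∈ Cfsg.Spor.He.extra}) subW) ∧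
    ∀ a ∈ ([.a, .c, .d, .e, .f, .g] : List Cfsg.Spor.He.Gen), ∀ u, u < 672 → tabU a u < 672 ∧
      (PresentedGroup.of (rels := (Cfsg.Spor.coxRelators Cfsg.Spor.He.edges ∪ {r | r ∈ Cfsg.Spor.He.extra})) a) • s u = s (tabU a u) :=
  section_of_checks invols (relW ++ [[(.e, true), (.d, true), (.c, true), (.d, true), (.e, true), (.d, true), (.c, true), (.d, true), (.c, true), (.d, true), (.e, true), (.d, true), (.c, true), (.d, true), (.c, true)]]) relW_one_ext (by decide +kernel) subW lets data rtriv rroot 25 29 rfl rfl
    (by decide +kernel) (by decide +kernel) (fun k hk => allBelow_spec defs_ok k hk) (covers1) (by decide +kernel)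
    (by
      intro i hi u hu
      have hi' : i < 6 := hi
      interval_cases i
      · exact allBelow_spec final1 u hu
      · exact allBelow_spec final2 u hu
      · exact allBelow_spec final3 u hu
      · exact allBelow_spec final4 u hu
      · exact allBelow_spec final5 u hu
      · exact allBelow_spec final6 u hu
      ) [.a, .c, .d, .e, .f, .g] tabU (by
      intro a ha
      fin_cases ha
      · exact ⟨0, by decide, rfl, rfl⟩
      · exact ⟨1, by decide, rfl, rfl⟩
      · exact ⟨2, by decide, rfl, rfl⟩
      · exact ⟨3, by decide, rfl, rfl⟩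
      · exact ⟨4, by decide, rfl, rfl⟩
      · exact ⟨5, by decide, rfl, rfl⟩
      )

end CfsgLib.SporRecognition.Cert.He672
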